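import Groth.Agent.Lib.Stein.Main
import Mathlib.RingTheory.Idempotents
import Mathlib.AlgebraicGeometry.Morphisms.QuasiCompact

/-! # Idempotents on a fibre lift to functions near the point -/

set_option autoImplicit false
universe u

open CategoryTheory CategoryTheory.Limits AlgebraicGeometry Opposite TopologicalSpace

namespace GrothLib.IdemLift

variable {X S X₀ S₀ Z Z₀ : Scheme.{u}}

/-- `e` is the restriction along `ι` of a section of `O_X` over the preimage of a neighbourhood of `s`. -/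
def Lifts (f : X ⟶ S) (ι : Z ⟶ X) (s : S) (e : Γ(Z, ⊤)) : Prop :=
  ∃ (V : S.Opens) (_ : s ∈ V) (h : (⊤ : Z.Opens) ≤ ι ⁻¹ᵁ (f ⁻¹ᵁ V)) (t : Γ(X, f ⁻¹ᵁ V)),
    ι.appLE (f ⁻¹ᵁ V) ⊤ h t = e

/-- Lifts pull back. -/
theorem lifts_pullback {f : X ⟶ S} {f₀ : X₀ ⟶ S₀} (g' : X ⟶ X₀) (g : S ⟶ S₀) (w : g' ≫ f₀ = f ≫ g)
    {ι : Z ⟶ X} {ι₀ : Z₀ ⟶ X₀} (m : Z ⟶ Z₀) (hm : ι ≫ g' = m ≫ ι₀) (s : S) (e₀ : Γ(Z₀, ⊤))
    (H : Lifts f₀ ι₀ (g s) e₀) : Lifts f ι s (m.appTop e₀) := by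
  obtain ⟨V₀, hV₀, h₀, t₀, ht₀⟩ := H
  have hle : f ⁻¹ᵁ (g ⁻¹ᵁ V₀) ≤ g' ⁻¹ᵁ (f₀ ⁻¹ᵁ V₀) := by
    rw [← Scheme.Hom.comp_preimage, ← Scheme.Hom.comp_preimage, w]
  have h : (⊤ : Z.Opens) ≤ ι ⁻¹ᵁ (f ⁻¹ᵁ (g ⁻¹ᵁ V₀)) := by
    intro z _
    have e1 : (ι ≫ f ≫ g) z = (m ≫ ι₀ ≫ f₀) z := by
      rw [← w, ← Category.assoc, hm, Category.assoc]
    show g (f (ι z)) ∈ V₀
    have := h₀ (show m z ∈ (⊤ : Z₀.Opens) from trivial)
    simp only [Scheme.Hom.comp_apply] at e1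
    rw [e1]
    exact this
  refine ⟨g ⁻¹ᵁ V₀, hV₀, h, g'.appLE _ _ hle t₀, ?_⟩
  subst ht₀
  have e1 : g'.appLE _ _ hle ≫ ι.appLE _ ⊤ h = (ι₀.appLE (f₀ ⁻¹ᵁ V₀) ⊤ h₀) ≫ m.appTop := by
    have e2 : (⊤ : Z.Opens) ≤ m ⁻¹ᵁ (⊤ : Z₀.Opens) := le_of_eq rfl
    rw [Scheme.Hom.appLE_comp_appLE, show m.appTop = m.appLE ⊤ ⊤ e2 from m.app_eq_appLE,
      Scheme.Hom.appLE_comp_appLE]
    simp only [hm]
  exact congr($(e1) t₀)

/-- An idempotent congruent modulo nilpotents to an element of the image of a ring map is in the image. -/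
theorem mem_range_of_isNilpotent_sub {A R : Type*} [CommRing A] [CommRing R] (φ : A →+* R) (c u : R)
    (hc : c ∈ φ.range) (hu : IsIdempotentElem u) (h : IsNilpotent (c - u)) : u ∈ φ.range := by
  let q : φ.range →+* R ⧸ nilradical R := (Ideal.Quotient.mk (nilradical R)).comp φ.range.subtype
  have hker : ∀ x ∈ RingHom.ker q, IsNilpotent x := fun x hx => by
    have h1 : IsNilpotent (x : R) := mem_nilradical.1 (Ideal.Quotient.eq_zero_iff_mem.1 hx)
    exact (IsNilpotent.map_iff (f := φ.range.subtype) Subtype.val_injective).1 h1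
  obtain ⟨v, hv, hvq⟩ := exists_isIdempotentElem_eq_of_ker_isNilpotent q hker
    (Ideal.Quotient.mk (nilradical R) u) ⟨⟨c, hc⟩, Ideal.Quotient.eq.2 (mem_nilradical.2 h)⟩
    (hu.map (Ideal.Quotient.mk _))
  have := eq_of_isNilpotent_sub_of_isIdempotentElem (hv.map φ.range.subtype) hu
    (mem_nilradical.1 (Ideal.Quotient.eq.1 hvq))
  exact this ▸ v.2

open GrothLib.PropH0 in
/-- Over a locally Noetherian base, idempotents of a fibre lift to functions near the point. -/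
theorem lifts_fibre (f : X ⟶ S) [IsProper f] [IsLocallyNoetherian S] (s : S)
    (e : Γ(f.fiber s, ⊤)) (he : IsIdempotentElem e) : Lifts f (f.fiberι s) s e := by
  let Z := f.fiber s
  have hS : IsClopen (Z.basicOpen e : Set Z) := by
    refine ⟨?_, (Z.basicOpen e).2⟩
    have hc : (Z.basicOpen e : Set Z)ᶜ = (Z.basicOpen (1 - e) : Set Z) := by
      ext z
      simp only [Set.mem_compl_iff, SetLike.mem_coe, Scheme.mem_basicOpen_top, map_sub, map_one]
      rcases IsLocalRing.isUnit_or_isUnit_one_sub_self ((Z.presheaf.germ ⊤ z trivial) e) with h | h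
      · refine iff_of_false (not_not.2 h) fun h' => ?_
        have h0 := (he.map (Z.presheaf.germ ⊤ z trivial).hom).eq
        have : (Z.presheaf.germ ⊤ z trivial) e = 1 := h.mul_left_cancel (h0.trans (mul_one _).symm)
        rw [this, sub_self] at h'
        exact not_isUnit_zero h'
      · refine iff_of_true (fun h' => ?_) h
        have h0 := (he.map (Z.presheaf.germ ⊤ z trivial).hom).eq
        have : (Z.presheaf.germ ⊤ z trivial) e = 1 := h'.mul_left_cancel (h0.trans (mul_one _).symm)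
        rw [this, sub_self] at h
        exact not_isUnit_zero h
    exact isOpen_compl_iff.1 (hc ▸ (Z.basicOpen (1 - e)).2)
  obtain ⟨V, hV, hsV, b, hb⟩ := Stein.exists_separating_points f s _ hS
  have hmem : ∀ z : Z, f.fiberι s z ∈ f ⁻¹ᵁ V := fun z => by
    show f (f.fiberι s z) ∈ V
    rw [show f (f.fiberι s z) = s from (f.range_fiberι s).le ⟨z, rfl⟩]; exact hsV
  have h : (⊤ : Z.Opens) ≤ (f.fiberι s) ⁻¹ᵁ (f ⁻¹ᵁ V) := fun z _ => hmem z
  let φ : Γ(X, f ⁻¹ᵁ V) →+* Γ(Z, ⊤) := ((f.fiberι s).appLE (f ⁻¹ᵁ V) ⊤ h).hom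
  have hbo : ∀ (a : Γ(X, f ⁻¹ᵁ V)) (z : Z), z ∈ Z.basicOpen (φ a) ↔ f.fiberι s z ∈ X.basicOpen a :=
    fun a z => by
      rw [show Z.basicOpen (φ a) = _ from Scheme.basicOpen_appLE (f.fiberι s) ⊤ (f ⁻¹ᵁ V) h a]
      exact ⟨fun hm => hm.2, fun hm => ⟨trivial, hm⟩⟩
  have hev : ∀ (a : Γ(X, f ⁻¹ᵁ V)) (z : Z), ev (f.fiberι s z) (hmem z) a = 0 →
      (Z.presheaf.germ ⊤ z trivial) (φ a) ∈ IsLocalRing.maximalIdeal _ := fun a z hz => by
    rw [IsLocalRing.mem_maximalIdeal]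
    intro hu
    exact (X.evaluation_eq_zero_iff_notMem_basicOpen _ (hmem z) a).1 hz
      ((hbo a z).1 ((Z.mem_basicOpen_top _ z).2 hu))
  have hnil : IsNilpotent (φ b - (1 - e)) := by
    have : CompactSpace Z := inferInstance
    rw [Scheme.isNilpotent_iff_basicOpen_eq_bot]
    refine eq_bot_iff.2 fun z hz => ?_
    rw [Scheme.mem_basicOpen_top, map_sub, map_sub, map_one] at hz
    have hie := (he.map (Z.presheaf.germ ⊤ z trivial).hom).eq
    exfalso
    by_cases hzS : z ∈ Z.basicOpen e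
    · have h1 : (Z.presheaf.germ ⊤ z trivial) e = 1 :=
        ((Z.mem_basicOpen_top _ z).1 hzS).mul_left_cancel (hie.trans (mul_one _).symm)
      rw [h1, sub_self, sub_zero] at hz
      exact (IsLocalRing.mem_maximalIdeal _).1 (hev b z ((hb z (hmem z)).1 hzS)) hz
    · have h1 : (Z.presheaf.germ ⊤ z trivial) e = 0 := by
        rcases IsLocalRing.isUnit_or_isUnit_one_sub_self ((Z.presheaf.germ ⊤ z trivial) e) with h | h
        · exact absurd ((Z.mem_basicOpen_top _ z).2 h) hzS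
        · refine h.mul_left_cancel ?_
          rw [sub_mul, one_mul, mul_zero]
          exact sub_eq_zero.2 hie.symm
      rw [h1, sub_zero] at hz
      have h2 : ev (f.fiberι s z) (hmem z) (1 - b) = 0 := by
        rw [map_sub, map_one]
        exact sub_eq_zero.2 ((hb z (hmem z)).2 hzS).symm
      have h3 := hev (1 - b) z h2
      rw [map_sub, map_sub, map_one, map_one, ← neg_sub, neg_mem_iff] at h3
      exact (IsLocalRing.mem_maximalIdeal _).1 h3 hz
  obtain ⟨t, ht⟩ := mem_range_of_isNilpotent_sub φ (φ b) (1 - e) ⟨b, rfl⟩ he.one_sub hnil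
  exact ⟨V, hsV, h, 1 - t, show φ (1 - t) = e by rw [map_sub, map_one, ht, sub_sub_cancel]⟩

end GrothLib.IdemLift
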