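import Groth.Agent.Lib.IdemLift.Basic
import Mathlib.AlgebraicGeometry.AffineTransitionLimit
import Mathlib.Algebra.Category.Ring.FilteredColimits
import Mathlib.CategoryTheory.Limits.Types.Filtered
import Mathlib.CategoryTheory.Limits.Opposites

/-! # Fibres of a limit of morphisms -/

set_option autoImplicit false
universe u

open CategoryTheory CategoryTheory.Limits AlgebraicGeometry Opposite TopologicalSpace

namespace GrothLib.IdemLift

variable {I : Type u} [SmallCategory I] [IsCofiltered I] {DX DS : I ⥤ Scheme.{u}} (φ : DX ⟶ DS)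
  {cX : Cone DX} {cS : Cone DS} (s : cS.pt)

theorem residueFieldMap_injective {X Y : Scheme.{u}} (g : X ⟶ Y) (x : X) :
    Function.Injective (g.residueFieldMap x) := RingHom.injective (g.residueFieldMap x).hom

variable (cS) in
/-- The residue field point at stage `i`. -/
noncomputable def stagePt (i : I) :
    Spec ((DS.obj i).residueField (cS.π.app i s)) ⟶ DS.obj i :=
  (DS.obj i).fromSpecResidueField _

instance mono_stagePt (i : I) : Mono (stagePt cS s i) :=
  inferInstanceAs (Mono ((DS.obj i).fromSpecResidueField (cS.π.app i s)))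

theorem exists_stageTrans {i j : I} (a : i ⟶ j) :
    ∃ r : Spec ((DS.obj i).residueField (cS.π.app i s)) ⟶ Spec ((DS.obj j).residueField (cS.π.app j s)),
      r ≫ stagePt cS s j = stagePt cS s i ≫ DS.map a := by
  have h : DS.map a (cS.π.app i s) = cS.π.app j s := by
    rw [← Scheme.Hom.comp_apply, cS.w a]
  exact ⟨Spec.map ((DS.map a).residueFieldMap (cS.π.app i s)) ≫
    Spec.map ((DS.obj j).residueFieldCongr h).inv, by
    rw [Category.assoc, stagePt, Scheme.residueFieldCongr_inv, Scheme.residueFieldCongr_fromSpecResidueField,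
      Scheme.Hom.SpecMap_residueFieldMap_fromSpecResidueField]
    rfl⟩

variable (cS) in
/-- The transition maps of the residue field points. -/
noncomputable def stageTrans {i j : I} (a : i ⟶ j) :=
  (exists_stageTrans (cS := cS) s a).choose

@[reassoc]
theorem stageTrans_comp {i j : I} (a : i ⟶ j) :
    stageTrans cS s a ≫ stagePt cS s j = stagePt cS s i ≫ DS.map a :=
  (exists_stageTrans (cS := cS) s a).choose_spec

theorem residue_trans {i j : I} (a : i ⟶ j) :
    Spec.map ((cS.π.app i).residueFieldMap s) ≫ stageTrans cS s a =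
      Spec.map ((cS.π.app j).residueFieldMap s) := by
  refine (cancel_mono (stagePt cS s j)).1 ?_
  rw [Category.assoc, stageTrans_comp, ← Category.assoc]
  refine (congrArg (· ≫ DS.map a) (Scheme.Hom.SpecMap_residueFieldMap_fromSpecResidueField (cS.π.app i) s)).trans ?_
  rw [Category.assoc, cS.w]
  exact (Scheme.Hom.SpecMap_residueFieldMap_fromSpecResidueField (cS.π.app j) s).symm

variable (cS) in
/-- The diagram of residue fields. -/
noncomputable def fieldSys : Iᵒᵖ ⥤ CommRingCat.{u} where
  obj i := (DS.obj i.unop).residueField (cS.π.app i.unop s)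
  map a := Spec.preimage (stageTrans cS s a.unop)
  map_id i := Spec.map_injective (by
    rw [Spec.map_preimage, Spec.map_id, ← cancel_mono (stagePt cS s i.unop), stageTrans_comp]
    simp)
  map_comp {i j k} a b := Spec.map_injective (by
    rw [Spec.map_preimage, Spec.map_comp, Spec.map_preimage, Spec.map_preimage,
      ← cancel_mono (stagePt cS s i.unop), stageTrans_comp, Category.assoc, stageTrans_comp,
      stageTrans_comp_assoc]
    simp)

variable (cS) in
/-- The cocone of residue fields at the limit point. -/
noncomputable def fieldCocone : Cocone (fieldSys cS s) where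
  pt := cS.pt.residueField s
  ι :=
    { app i := (cS.π.app i.unop).residueFieldMap s
      naturality := fun i j a => Spec.map_injective (by
        refine (Spec.map_comp _ _).trans ?_
        refine (congrArg (fun z => Spec.map ((cS.π.app j.unop).residueFieldMap s) ≫ z)
          (Spec.map_preimage (stageTrans cS s a.unop))).trans ?_
        refine (residue_trans s a.unop).trans ?_
        exact congrArg Spec.map (Category.comp_id _).symm) }

theorem fieldSys_map_residue {i j : Iᵒᵖ} (a : i ⟶ j) (x : (DS.obj i.unop).residueField (cS.π.app i.unop s)) :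
    (cS.π.app j.unop).residueFieldMap s ((fieldSys cS s).map a x) = (cS.π.app i.unop).residueFieldMap s x :=
  ConcreteCategory.congr_hom ((fieldCocone cS s).w a) x

/-- The residue field at the limit point is the colimit of the residue fields. -/
theorem nonempty_isColimit_fieldCocone [∀ {i j : I} (a : i ⟶ j), IsAffineHom (DS.map a)]
    [∀ i, CompactSpace (DS.obj i)] [∀ i, QuasiSeparatedSpace (DS.obj i)] [IsAffine cS.pt]
    (hS : IsLimit cS) : Nonempty (IsColimit (fieldCocone cS s)) := by
  refine ⟨@isColimitOfReflects _ _ _ _ _ _ _ (forget CommRingCat.{u}) _ ?_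
    (reflectsColimit_of_reflectsIsomorphisms _ _)⟩
  refine Types.FilteredColimit.isColimitOf _ _ (fun x => ?_) (fun i j xi xj h => ?_)
  · obtain ⟨y, rfl⟩ := IsLocalRing.residue_surjective (x : cS.pt.residueField s)
    letI := cS.pt.presheaf.algebra_section_stalk (⟨s, trivial⟩ : (⊤ : cS.pt.Opens))
    have := (isAffineOpen_top cS.pt).isLocalization_stalk ⟨s, trivial⟩
    obtain ⟨⟨a, b⟩, hy⟩ := IsLocalization.surj ((isAffineOpen_top cS.pt).primeIdealOf ⟨s, trivial⟩).asIdeal.primeCompl y
    have hb : IsUnit (cS.pt.presheaf.germ ⊤ s trivial b.1) :=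
      IsLocalization.map_units (cS.pt.presheaf.stalk s) b
    obtain ⟨i, a', ha⟩ := exists_appTop_π_eq_of_isLimit DS cS hS a
    obtain ⟨j, b', hb'⟩ := exists_appTop_π_eq_of_isLimit DS cS hS b.1
    let k := IsCofiltered.min i j
    let p : k ⟶ i := IsCofiltered.minToLeft i j
    let q : k ⟶ j := IsCofiltered.minToRight i j
    let A := (DS.obj k).Γevaluation (cS.π.app k s) ((DS.map p).appTop a')
    let B := (DS.obj k).Γevaluation (cS.π.app k s) ((DS.map q).appTop b')
    have hA : (cS.π.app k).residueFieldMap s A = cS.pt.Γevaluation s a := by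
      rw [Scheme.Γevaluation_naturality_apply, ha, ← cS.w p, Scheme.Hom.comp_appTop]
      rfl
    have hB : (cS.π.app k).residueFieldMap s B = cS.pt.Γevaluation s b.1 := by
      rw [Scheme.Γevaluation_naturality_apply, hb', ← cS.w q, Scheme.Hom.comp_appTop]
      rfl
    refine ⟨op k, A / B, ?_⟩
    change IsLocalRing.residue _ y = (cS.π.app k).residueFieldMap s (A / B)
    rw [map_div₀, hA, hB]
    have hb0 : cS.pt.Γevaluation s b.1 ≠ 0 := (hb.map (IsLocalRing.residue _)).ne_zero
    exact (eq_div_iff hb0).2
      ((map_mul (IsLocalRing.residue _) y _).symm.trans (congrArg (IsLocalRing.residue _) hy))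
  · refine ⟨op (IsCofiltered.min i.unop j.unop), (IsCofiltered.minToLeft _ _).op,
      (IsCofiltered.minToRight _ _).op, ?_⟩
    refine residueFieldMap_injective (cS.π.app (IsCofiltered.min i.unop j.unop)) s ?_
    exact (fieldSys_map_residue s (IsCofiltered.minToLeft i.unop j.unop).op xi).trans
      (h.trans (fieldSys_map_residue s (IsCofiltered.minToRight i.unop j.unop).op xj).symm)

variable (cS) in
/-- The diagram of residue field points. -/
noncomputable def ptSys : I ⥤ Scheme.{u} where
  obj i := Spec ((DS.obj i).residueField (cS.π.app i s))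
  map a := stageTrans cS s a
  map_id i := by
    rw [← cancel_mono (stagePt cS s i), stageTrans_comp]
    simp
  map_comp {i j k} a b := by
    rw [← cancel_mono (stagePt cS s k), stageTrans_comp, Category.assoc, stageTrans_comp,
      stageTrans_comp_assoc]
    simp

variable (cS) in
/-- The point as a cone over the residue field points. -/
noncomputable def ptProj (i : I) :
    Spec (cS.pt.residueField s) ⟶ Spec ((DS.obj i).residueField (cS.π.app i s)) :=
  Spec.map ((cS.π.app i).residueFieldMap s)

theorem ptProj_comp (i : I) :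
    ptProj cS s i ≫ stagePt cS s i = cS.pt.fromSpecResidueField s ≫ cS.π.app i :=
  Scheme.Hom.SpecMap_residueFieldMap_fromSpecResidueField _ _

theorem ptProj_trans {i j : I} (a : i ⟶ j) : ptProj cS s i ≫ stageTrans cS s a = ptProj cS s j := by
  rw [← cancel_mono (stagePt cS s j), Category.assoc, stageTrans_comp, ← Category.assoc, ptProj_comp,
    ptProj_comp, Category.assoc, cS.w]

theorem fibre_cond {i j : I} (a : i ⟶ j) :
    ((φ.app i).fiberι (cS.π.app i s) ≫ DX.map a) ≫ φ.app j =
      ((φ.app i).fiberToSpecResidueField (cS.π.app i s) ≫ stageTrans cS s a) ≫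
        (DS.obj j).fromSpecResidueField (cS.π.app j s) := by
  rw [Category.assoc, φ.naturality, ← Category.assoc, Scheme.Hom.fiber_fac,
    Category.assoc, Category.assoc]
  exact congrArg (fun z => (φ.app i).fiberToSpecResidueField _ ≫ z) (stageTrans_comp s a).symm

variable (cS) in
/-- The transition maps of the fibres. -/
noncomputable def fibreTrans {i j : I} (a : i ⟶ j) :
    (φ.app i).fiber (cS.π.app i s) ⟶ (φ.app j).fiber (cS.π.app j s) :=
  pullback.lift ((φ.app i).fiberι _ ≫ DX.map a)
    ((φ.app i).fiberToSpecResidueField _ ≫ stageTrans cS s a) (fibre_cond φ s a)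

theorem fibreTrans_fst {i j : I} (a : i ⟶ j) :
    fibreTrans φ cS s a ≫ (φ.app j).fiberι _ = (φ.app i).fiberι _ ≫ DX.map a :=
  pullback.lift_fst _ _ _

theorem fibreTrans_snd {i j : I} (a : i ⟶ j) :
    fibreTrans φ cS s a ≫ (φ.app j).fiberToSpecResidueField _ =
      (φ.app i).fiberToSpecResidueField _ ≫ stageTrans cS s a :=
  pullback.lift_snd _ _ _

theorem fibre_hom_ext {T : Scheme.{u}} {i : I} {u v : T ⟶ (φ.app i).fiber (cS.π.app i s)}
    (h₁ : u ≫ (φ.app i).fiberι _ = v ≫ (φ.app i).fiberι _)
    (h₂ : u ≫ (φ.app i).fiberToSpecResidueField _ = v ≫ (φ.app i).fiberToSpecResidueField _) : u = v :=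
  pullback.hom_ext h₁ h₂

variable (cS) in
/-- The system of fibres. -/
noncomputable def fibreSys : I ⥤ Scheme.{u} where
  obj i := (φ.app i).fiber (cS.π.app i s)
  map a := fibreTrans φ cS s a
  map_id i := fibre_hom_ext φ s (by rw [fibreTrans_fst, DX.map_id, Category.comp_id, Category.id_comp])
    (by rw [fibreTrans_snd, show stageTrans cS s (𝟙 i) = 𝟙 _ from (ptSys cS s).map_id i,
      Category.comp_id, Category.id_comp])
  map_comp {i j k} a b := fibre_hom_ext φ s
    (by rw [fibreTrans_fst, Category.assoc, fibreTrans_fst, ← Category.assoc, fibreTrans_fst, Category.assoc,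
      DX.map_comp])
    (by rw [fibreTrans_snd, Category.assoc, fibreTrans_snd, ← Category.assoc, fibreTrans_snd, Category.assoc,
      show stageTrans cS s (a ≫ b) = _ from (ptSys cS s).map_comp a b]; rfl)

variable (f : cX.pt ⟶ cS.pt) (hf : ∀ i, cX.π.app i ≫ φ.app i = f ≫ cS.π.app i)

include hf in
theorem cone_cond (i : I) :
    (f.fiberι s ≫ cX.π.app i) ≫ φ.app i =
      (f.fiberToSpecResidueField s ≫ ptProj cS s i) ≫ (DS.obj i).fromSpecResidueField (cS.π.app i s) := by
  rw [Category.assoc, hf, ← Category.assoc, Scheme.Hom.fiber_fac, Category.assoc,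
    Category.assoc]
  exact congrArg (fun z => f.fiberToSpecResidueField s ≫ z) (ptProj_comp s i).symm

/-- The projection of the fibre to a stage. -/
noncomputable def fibreProj (i : I) : f.fiber s ⟶ (φ.app i).fiber (cS.π.app i s) :=
  pullback.lift (f.fiberι s ≫ cX.π.app i) (f.fiberToSpecResidueField s ≫ ptProj cS s i)
    (cone_cond φ s f hf i)

theorem fibreProj_fst (i : I) :
    fibreProj φ s f hf i ≫ (φ.app i).fiberι _ = f.fiberι s ≫ cX.π.app i :=
  pullback.lift_fst _ _ _

theorem fibreProj_snd (i : I) :
    fibreProj φ s f hf i ≫ (φ.app i).fiberToSpecResidueField _ = f.fiberToSpecResidueField s ≫ ptProj cS s i :=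
  pullback.lift_snd _ _ _

/-- The fibre as a cone over the fibres. -/
noncomputable def fibreCone : Cone (fibreSys φ cS s) where
  pt := f.fiber s
  π :=
    { app i := fibreProj φ s f hf i
      naturality := fun i j a => (Category.id_comp _).trans (fibre_hom_ext φ s
        (by
          rw [fibreProj_fst]
          refine (?_ : _ = fibreProj φ s f hf i ≫ fibreTrans φ cS s a ≫ _).trans (Category.assoc _ _ _).symm
          rw [fibreTrans_fst, ← Category.assoc, fibreProj_fst, Category.assoc, cX.w])
        (by
          rw [fibreProj_snd]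
          refine (?_ : _ = fibreProj φ s f hf i ≫ fibreTrans φ cS s a ≫ _).trans (Category.assoc _ _ _).symm
          rw [fibreTrans_snd, ← Category.assoc, fibreProj_snd, Category.assoc, ptProj_trans])) }

/-- The fibre is the limit of the fibres. -/
theorem nonempty_isLimit_fibreCone [∀ {i j : I} (a : i ⟶ j), IsAffineHom (DS.map a)]
    [∀ i, CompactSpace (DS.obj i)] [∀ i, QuasiSeparatedSpace (DS.obj i)] [IsAffine cS.pt]
    (hX : IsLimit cX) (hS : IsLimit cS) : Nonempty (IsLimit (fibreCone φ s f hf)) := by
  obtain ⟨hc⟩ := nonempty_isColimit_fieldCocone s hS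
  let hp := isLimitOfPreserves Scheme.Spec (isLimitConeRightOpOfCocone (fieldSys cS s) hc)
  let sX (t : Cone (fibreSys φ cS s)) : Cone DX :=
    { pt := t.pt
      π := { app := fun i => t.π.app i ≫ (φ.app i).fiberι _
             naturality := fun i j a => by
              refine (Category.id_comp _).trans ((congrArg (· ≫ _) (t.w a).symm).trans ?_)
              exact (Category.assoc _ _ _).trans ((congrArg (fun z => t.π.app i ≫ z) (fibreTrans_fst φ s a)).trans
                (Category.assoc _ _ _).symm) } }
  let sP (t : Cone (fibreSys φ cS s)) : Cone ((fieldSys cS s).rightOp ⋙ Scheme.Spec) :=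
    { pt := t.pt
      π := { app := fun i => t.π.app i ≫ (φ.app i).fiberToSpecResidueField _
             naturality := fun i j a => by
              refine (Category.id_comp _).trans ((congrArg (· ≫ _) (t.w a).symm).trans ?_)
              refine (Category.assoc _ _ _).trans ((congrArg (fun z => t.π.app i ≫ z) (fibreTrans_snd φ s a)).trans ?_)
              refine (Category.assoc _ _ _).symm.trans (congrArg (fun z => _ ≫ z) ?_)
              exact (Spec.map_preimage (stageTrans cS s a)).symm } }
  have hX' : ∀ t i, hX.lift (sX t) ≫ cX.π.app i = t.π.app i ≫ (φ.app i).fiberι _ := fun t i => hX.fac (sX t) i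
  let l (t : Cone (fibreSys φ cS s)) : t.pt ⟶ Spec (cS.pt.residueField s) := hp.lift (sP t)
  have hl : ∀ t i, l t ≫ ptProj cS s i = t.π.app i ≫ (φ.app i).fiberToSpecResidueField _ :=
    fun t i => hp.fac (sP t) i
  have hcond : ∀ t, hX.lift (sX t) ≫ f = l t ≫ cS.pt.fromSpecResidueField s := fun t => by
    refine hS.hom_ext fun i => ?_
    rw [Category.assoc, ← hf, ← Category.assoc, hX', Category.assoc, Category.assoc, ← ptProj_comp,
      ← Category.assoc (l t), hl, Category.assoc]
    exact congrArg (fun z => t.π.app i ≫ z) ((φ.app i).fiber_fac _)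
  refine ⟨{ lift := fun t => pullback.lift (hX.lift (sX t)) (l t) (hcond t), fac := ?_, uniq := ?_ }⟩
  · intro t i
    refine fibre_hom_ext φ s ((Category.assoc _ _ _).trans ?_) ((Category.assoc _ _ _).trans ?_)
    · refine (congrArg (fun z => _ ≫ z) (fibreProj_fst φ s f hf i)).trans ?_
      exact (Category.assoc _ _ _).symm.trans ((congrArg (· ≫ _) (pullback.lift_fst _ _ _)).trans (hX' t i))
    · refine (congrArg (fun z => _ ≫ z) (fibreProj_snd φ s f hf i)).trans ?_
      exact (Category.assoc _ _ _).symm.trans ((congrArg (· ≫ _) (pullback.lift_snd _ _ _)).trans (hl t i))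
  · intro t m hm
    apply pullback.hom_ext
    · refine (hX.uniq (sX t) _ fun i => ?_).trans (pullback.lift_fst _ _ _).symm
      exact (Category.assoc _ _ _).trans ((congrArg (fun z => m ≫ z) (fibreProj_fst φ s f hf i).symm).trans
        ((Category.assoc _ _ _).symm.trans (congrArg (· ≫ _) (hm i))))
    · refine (hp.uniq (sP t) _ fun i => ?_).trans (pullback.lift_snd _ _ _).symm
      exact (Category.assoc _ _ _).trans ((congrArg (fun z => m ≫ z) (fibreProj_snd φ s f hf i).symm).trans
        ((Category.assoc _ _ _).symm.trans (congrArg (· ≫ _) (hm i))))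

include hf in
/-- Idempotents of a fibre lift for limits of proper morphisms over locally Noetherian bases. -/
theorem lifts_of_limit [∀ {i j : I} (a : i ⟶ j), IsAffineHom (DS.map a)]
    [∀ {i j : I} (a : i ⟶ j), IsAffineHom (DX.map a)]
    [∀ i, CompactSpace (DS.obj i)] [∀ i, IsLocallyNoetherian (DS.obj i)] [∀ i, IsProper (φ.app i)]
    [IsAffine cS.pt] (hX : IsLimit cX) (hS : IsLimit cS)
    (e : Γ(f.fiber s, ⊤)) (he : IsIdempotentElem e) : Lifts f (f.fiberι s) s e := by
  obtain ⟨hZ⟩ := nonempty_isLimit_fibreCone φ s f hf hX hS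
  have haff : ∀ {i j : I} (a : i ⟶ j), IsAffineHom ((fibreSys φ cS s).map a) := fun {i j} a => by
    let d := pullback.mapDesc (φ.app i) (stagePt cS s i) (DS.map a)
    have hd : IsAffineHom d :=
      have : IsClosedImmersion d := inferInstanceAs (IsClosedImmersion (pullback.mapDesc _ _ _))
      inferInstance
    have hm := MorphismProperty.pullbackMap (P := @IsAffineHom) (f := φ.app i ≫ DS.map a)
      (g := stagePt cS s i ≫ DS.map a) (f' := φ.app j) (g' := stagePt cS s j) (i₁ := DX.map a)
      (i₂ := stageTrans cS s a) inferInstance (inferInstanceAs (IsAffineHom (stageTrans cS s a)))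
      (φ.naturality a).symm (stageTrans_comp s a).symm
    let u := pullback.map (φ.app i ≫ DS.map a) (stagePt cS s i ≫ DS.map a) (φ.app j) (stagePt cS s j)
      (DX.map a) (stageTrans cS s a) (𝟙 _) ((Category.comp_id _).trans (φ.naturality a).symm)
      ((Category.comp_id _).trans (stageTrans_comp s a).symm)
    have hu : IsAffineHom u := hm
    have d1 : d ≫ pullback.fst (φ.app i ≫ DS.map a) (stagePt cS s i ≫ DS.map a) =
        (φ.app i).fiberι _ ≫ 𝟙 _ := pullback.lift_fst _ _ _
    have d2 : d ≫ pullback.snd (φ.app i ≫ DS.map a) (stagePt cS s i ≫ DS.map a) =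
        (φ.app i).fiberToSpecResidueField _ ≫ 𝟙 _ := pullback.lift_snd _ _ _
    have e : fibreTrans φ cS s a = d ≫ u := fibre_hom_ext φ s
      ((fibreTrans_fst φ s a).trans (((Category.assoc _ _ _).trans
        ((congrArg (fun z => d ≫ z) (pullback.lift_fst _ _ _)).trans ((Category.assoc _ _ _).symm.trans
          ((congrArg (· ≫ DX.map a) d1).trans (congrArg (· ≫ DX.map a) (Category.comp_id _)))))).symm))
      ((fibreTrans_snd φ s a).trans (((Category.assoc _ _ _).trans
        ((congrArg (fun z => d ≫ z) (pullback.lift_snd _ _ _)).trans ((Category.assoc _ _ _).symm.trans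
          ((congrArg (· ≫ stageTrans cS s a) d2).trans
            (congrArg (· ≫ stageTrans cS s a) (Category.comp_id _)))))).symm))
    show IsAffineHom (fibreTrans φ cS s a)
    rw [e]
    exact MorphismProperty.comp_mem _ d u hd hu
  have : ∀ i, CompactSpace ((fibreSys φ cS s).obj i) := fun i =>
    inferInstanceAs (CompactSpace ((φ.app i).fiber (cS.π.app i s)))
  have : ∀ i, QuasiSeparatedSpace ((fibreSys φ cS s).obj i) := fun i => by
    have : QuasiSeparated ((φ.app i).fiberToSpecResidueField (cS.π.app i s)) :=
      MorphismProperty.pullback_snd (P := @QuasiSeparated) _ _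
        (haveI : IsSeparated (φ.app i) := inferInstance; inferInstance)
    exact @quasiSeparatedSpace_of_quasiSeparated _ _ ((φ.app i).fiberToSpecResidueField (cS.π.app i s)) inferInstance this
  obtain ⟨i, e₁, he₁⟩ := exists_appTop_π_eq_of_isLimit (fibreSys φ cS s) (fibreCone φ s f hf) hZ e
  obtain ⟨j, a, hj⟩ := exists_appTop_map_eq_zero_of_isLimit (fibreSys φ cS s) (fibreCone φ s f hf) hZ
    (e₁ * e₁ - e₁) (by rw [map_sub, map_mul, ← he₁]; exact sub_eq_zero.2 he.eq)
  have he₂ : IsIdempotentElem (((fibreSys φ cS s).map a).appTop e₁) := by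
    rw [map_sub, map_mul] at hj
    exact sub_eq_zero.1 hj
  have hm : e = ((fibreCone φ s f hf).π.app j).appTop (((fibreSys φ cS s).map a).appTop e₁) := by
    rw [he₁, ← (fibreCone φ s f hf).w a, Scheme.Hom.comp_appTop]
    rfl
  rw [hm]
  exact lifts_pullback (f := f) (f₀ := φ.app j) (cX.π.app j) (cS.π.app j) (hf j)
    ((fibreCone φ s f hf).π.app j) (fibreProj_fst φ s f hf j).symm s _
    (lifts_fibre (φ.app j) (cS.π.app j s) _ he₂)

end GrothLib.IdemLift
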