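import Groth.Agent.Lib.IdemLift.Limit
import Groth.Agent.S2147

/-! # Idempotents of fibres of proper morphisms lift to functions near the point -/

set_option autoImplicit false
universe u

open CategoryTheory CategoryTheory.Limits AlgebraicGeometry Opposite TopologicalSpace

namespace GrothLib.IdemLift

variable {X S : Scheme.{u}}

theorem lifts_of_isAffine (f : X ⟶ S) [IsProper f] [IsAffine S] (s : S)
    (e : Γ(f.fiber s, ⊤)) (he : IsIdempotentElem e) : Lifts f (f.fiberι s) s e := by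
  obtain ⟨I, _, _, DX, DS, φ, cX, cS, hX, hS, eX, eS, haff, hprop, hcomm⟩ := Groth.Agent.S2147.result f
  have : ∀ {i j : I} (a : i ⟶ j), IsAffineHom (DX.map a) := fun a => (haff _ _ a).1
  have : ∀ {i j : I} (a : i ⟶ j), IsAffineHom (DS.map a) := fun a => (haff _ _ a).2
  have : ∀ i, IsProper (φ.app i) := fun i => (hprop i).1
  have : ∀ i, CompactSpace (DS.obj i) := fun i => (hprop i).2.1
  have : ∀ i, IsLocallyNoetherian (DS.obj i) := fun i =>
    have := (hprop i).2.2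
    have : IsNoetherianRing (ULift.{u} ℤ) := isNoetherianRing_of_ringEquiv ℤ ULift.ringEquiv.symm
    LocallyOfFiniteType.isLocallyNoetherian (IsTerminal.from specULiftZIsTerminal (DS.obj i))
  let cX' : Cone DX := cX.extend eX.inv
  let cS' : Cone DS := cS.extend eS.inv
  have hX' : IsLimit cX' := IsLimit.ofIsoLimit hX (Cone.ext eX (fun i => by simp [cX']))
  have hS' : IsLimit cS' := IsLimit.ofIsoLimit hS (Cone.ext eS (fun i => by simp [cS']))
  have : IsAffine cS'.pt := ‹IsAffine S›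
  exact lifts_of_limit φ (cX := cX') (cS := cS') s f (fun i => by simp [cX', cS', hcomm i]) hX' hS' e he

theorem lifts_fibre_of_proper (f : X ⟶ S) [IsProper f] (s : S)
    (e : Γ(f.fiber s, ⊤)) (he : IsIdempotentElem e) : Lifts f (f.fiberι s) s e := by
  obtain ⟨V₀, hV₀, hs, -⟩ := exists_isAffineOpen_mem_and_subset (x := s) (U := ⊤) trivial
  have : IsAffine V₀.toScheme := hV₀
  have : IsProper (f ∣_ V₀) := IsZariskiLocalAtTarget.restrict ‹_› _
  let s' : V₀.toScheme := ⟨s, hs⟩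
  let U := f ⁻¹ᵁ V₀
  let f' := f ∣_ V₀
  let q := f.fiberToSpecResidueField s
  let ι₀ : f.fiber s ⟶ U.toScheme := IsOpenImmersion.lift U.ι (f.fiberι s) (by
    rw [Scheme.Opens.range_ι, f.range_fiberι]
    intro x (hx : f x = s)
    show f x ∈ V₀
    rw [hx]; exact hs)
  have hι₀ : ι₀ ≫ U.ι = f.fiberι s := IsOpenImmersion.lift_fac _ _ _
  let ψ : Spec (V₀.toScheme.residueField s') ⟶ Spec (S.residueField s) := Spec.map (V₀.ι.residueFieldMap s')
  have hψ : ψ ≫ S.fromSpecResidueField s = V₀.toScheme.fromSpecResidueField s' ≫ V₀.ι :=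
    Scheme.Hom.SpecMap_residueFieldMap_fromSpecResidueField _ _
  have : IsIso ψ := inferInstanceAs (IsIso (Spec.map (V₀.ι.residueFieldMap s')))
  have hw : f' ≫ V₀.ι = U.ι ≫ f := morphismRestrict_ι f V₀
  let m : f.fiber s ⟶ f'.fiber s' := pullback.lift ι₀ (q ≫ inv ψ) (by
    rw [← cancel_mono V₀.ι, Category.assoc, hw, reassoc_of% hι₀, Category.assoc, Category.assoc, ← hψ,
      IsIso.inv_hom_id_assoc]
    exact f.fiber_fac s)
  let n : f'.fiber s' ⟶ f.fiber s := pullback.lift (f'.fiberι s' ≫ U.ι) (f'.fiberToSpecResidueField s' ≫ ψ) (by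
    rw [Category.assoc, ← hw, Category.assoc, hψ, reassoc_of% f'.fiber_fac s'])
  have hmn : m ≫ n = 𝟙 _ := by
    apply pullback.hom_ext
    · refine ((Category.assoc _ _ _).trans ?_).trans (Category.id_comp _).symm
      refine ((congrArg (m ≫ ·) (pullback.lift_fst _ _ _)).trans (Category.assoc _ _ _).symm).trans ?_
      exact (congrArg (· ≫ U.ι) (pullback.lift_fst _ _ _)).trans hι₀
    · refine ((Category.assoc _ _ _).trans ?_).trans (Category.id_comp _).symm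
      refine ((congrArg (m ≫ ·) (pullback.lift_snd _ _ _)).trans (Category.assoc _ _ _).symm).trans ?_
      refine (congrArg (· ≫ ψ) (pullback.lift_snd _ _ _)).trans ?_
      rw [Category.assoc, IsIso.inv_hom_id, Category.comp_id]; rfl
  have hm : ι₀ ≫ 𝟙 U.toScheme = m ≫ f'.fiberι s' := by
    rw [Category.comp_id]; exact (pullback.lift_fst _ _ _).symm
  have h1 := lifts_pullback (f := f') (f₀ := f') (𝟙 _) (𝟙 _) (by simp) (ι := ι₀) m hm s' (n.appTop e)
    (lifts_of_isAffine f' s' (n.appTop e) (he.map n.appTop.hom))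
  have he' : m.appTop (n.appTop e) = e := by
    rw [← CategoryTheory.comp_apply, ← Scheme.Hom.comp_appTop, hmn, Scheme.Hom.id_appTop]
    rfl
  rw [he'] at h1
  obtain ⟨V', hsV', hle, t, ht⟩ := h1
  have hW : f ⁻¹ᵁ (V₀.ι ''ᵁ V') = U.ι ''ᵁ (f' ⁻¹ᵁ V') := (image_morphismRestrict_preimage f V₀ V').symm
  have hle' : (⊤ : (f.fiber s).Opens) ≤ (f.fiberι s) ⁻¹ᵁ (f ⁻¹ᵁ (V₀.ι ''ᵁ V')) := by
    rw [hW, ← hι₀, Scheme.Hom.comp_preimage, Scheme.Hom.preimage_image_eq]
    exact hle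
  refine ⟨V₀.ι ''ᵁ V', ⟨s', hsV', rfl⟩, hle',
    X.presheaf.map (eqToHom hW).op ((U.ι.appIso (f' ⁻¹ᵁ V')).inv t), ?_⟩
  subst ht
  have hlu : f' ⁻¹ᵁ V' ≤ U.ι ⁻¹ᵁ (U.ι ''ᵁ (f' ⁻¹ᵁ V')) := by rw [Scheme.Hom.preimage_image_eq]
  have key : (U.ι.appIso (f' ⁻¹ᵁ V')).inv ≫ X.presheaf.map (eqToHom hW).op ≫
      (f.fiberι s).appLE _ ⊤ hle' = ι₀.appLE _ ⊤ hle := by
    rw [Scheme.Hom.map_appLE]
    simp only [← hι₀]
    rw [← Scheme.Hom.appLE_comp_appLE ι₀ U.ι _ _ _ hlu hle, ← Category.assoc, Scheme.Hom.appIso_inv_appLE,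
      Scheme.Hom.map_appLE]
  exact congr($(key) t)

/-- In the form of an equality of restrictions. -/
theorem exists_lift_idempotent (f : X ⟶ S) [IsProper f] (s : S)
    (e : Γ(f.fiber s, ⊤)) (he : IsIdempotentElem e) :
    ∃ (V : S.Opens) (_ : s ∈ V) (t : Γ(X, f ⁻¹ᵁ V)),
      ((f.fiberι s).app (f ⁻¹ᵁ V)).hom t =
        ((f.fiber s).presheaf.map (homOfLE (le_top : (f.fiberι s) ⁻¹ᵁ (f ⁻¹ᵁ V) ≤ ⊤)).op).hom e := by
  obtain ⟨V, hs, h, t, ht⟩ := lifts_fibre_of_proper f s e he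
  refine ⟨V, hs, t, ?_⟩
  subst ht
  have key : (f.fiberι s).app (f ⁻¹ᵁ V) = (f.fiberι s).appLE _ ⊤ h ≫
      (f.fiber s).presheaf.map (homOfLE (le_top : (f.fiberι s) ⁻¹ᵁ (f ⁻¹ᵁ V) ≤ ⊤)).op := by
    rw [Scheme.Hom.appLE_map, Scheme.Hom.app_eq_appLE]
  exact congr($(key) t)

end GrothLib.IdemLift
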